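import Groth.Agent.Lib.BlowStrict85.Alg
import Groth.Agent.H26.BlowSmooth
import Groth.Agent.H22.StrictTransform.Closed

/-!
# Strict transforms along regular sequences are regularly immersed
-/

set_option autoImplicit false
set_option linter.style.haveILetI false
universe u

open CategoryTheory CategoryTheory.Limits AlgebraicGeometry RingTheory.Sequence
open Groth.Agent.Lib

namespace Groth.Agent.Lib.BlowStrict85

theorem isClosedImmersion_lift {X Y X' Y' : Scheme.{u}}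
    (𝓘 : X.IdealSheafData) (f : Y ⟶ X) [IsClosedImmersion f]
    (b : X' ⟶ X) (hb : BlowUp.IsBlowUp b 𝓘) (b' : Y' ⟶ Y) (hb' : BlowUp.IsBlowUp b' (𝓘.comap f))
    (f' : Y' ⟶ X') (hf' : f' ≫ b = b' ≫ f) : IsClosedImmersion f' := by
  let e := f.toImage
  haveI : IsIso e := inferInstanceAs (IsIso f.toImage)
  have he : e ≫ f.imageι = f := f.toImage_imageι
  have hb'' : BlowUp.IsBlowUp (b' ≫ e) (𝓘.comap f.ker.subschemeι) := by
    have hc : ∀ {Z : Scheme.{u}} (g : Z ⟶ f.ker.subscheme),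
        (𝓘.comap f.ker.subschemeι).comap g = (𝓘.comap f).comap (g ≫ inv e) := by
      intro Z g
      rw [← Scheme.IdealSheafData.comap_comp, ← Scheme.IdealSheafData.comap_comp, Category.assoc]
      congr 2
      exact ((IsIso.inv_comp_eq e).2 he.symm).symm
    refine ⟨?_, fun Z g hg => ?_⟩
    · rw [hc, Category.assoc, IsIso.hom_inv_id, Category.comp_id]; exact hb'.1
    · rw [hc] at hg
      obtain ⟨h, hh, huniq⟩ := hb'.2 _ _ hg
      refine ⟨h, ?_, fun h' hh' => huniq h' ?_⟩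
      · show h ≫ b' ≫ e = g
        rw [← Category.assoc, hh, Category.assoc, IsIso.inv_hom_id, Category.comp_id]
      · show h' ≫ b' = g ≫ inv e
        rw [← hh', Category.assoc, Category.assoc, IsIso.hom_inv_id, Category.comp_id]
  refine Groth.Agent.H22.StrictTransform.isClosedImmersion_lift hb hb'' ?_
  rw [hf', Category.assoc]
  congr 1
  exact he.symm

theorem isEffCartier_specMap_fromSpec {X : Scheme.{u}} {I : X.IdealSheafData} {U : X.affineOpens}
    {R : CommRingCat.{u}} (φ : Γ(X, U.1) ⟶ R) (a : Γ(X, U.1)) (hnz : φ.hom a ∈ nonZeroDivisors R)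
    (h : Ideal.map φ.hom (I.ideal U) = Ideal.span {φ.hom a}) :
    BlowUp.IsEffCartierIdeal (I.comap (Spec.map φ ≫ U.2.fromSpec)) := by
  intro z
  refine ⟨⟨⊤, isAffineOpen_top _⟩, trivial, _, ?_, BlowUpExists.ideal_top_specMap_fromSpec φ a h⟩
  rw [BlowUpExists.appLE_specMap_fromSpec, CommRingCat.comp_apply]
  refine Ideal.EffCartier.mem_nonZeroDivisors_of_eq_zero fun b hb => ?_
  have h1 := congrArg (Scheme.ΓSpecIso R).hom.hom hb
  rw [map_zero, map_mul, Iso.inv_hom_id_apply] at h1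
  have h2 := (mul_left_mem_nonZeroDivisors_eq_zero_iff hnz).mp h1
  exact (ConcreteCategory.bijective_of_isIso (Scheme.ΓSpecIso R).hom).1 (h2.trans (map_zero _).symm)

theorem ker_le_of_kills {X Y M M' : Scheme.{u}} (k : Y ⟶ X) [IsClosedImmersion k]
    (𝓘 : X.IdealSheafData) (b : M ⟶ X) (hb : BlowUp.IsBlowUp b 𝓘) (b' : M' ⟶ Y)
    (hb' : BlowUp.IsBlowUp b' (𝓘.comap k)) (j : M' ⟶ M) (hj : j ≫ b = b' ≫ k)
    (U : X.affineOpens) {c : ℕ} (a : Fin c → Γ(X, U.1)) (hI : 𝓘.ideal U = Ideal.span (Set.range a))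
    (J : Fin c) (D : M.Opens) (hD : IsAffineOpen D) (hDU : D ≤ b ⁻¹ᵁ U.1)
    (e : B (a := a) J ≃+* Γ(M, D)) (he : ∀ r, e (algebraMap Γ(X, U.1) _ r) = b.appLE U.1 D hDU r)
    (R : CommRingCat.{u}) (π : B (a := a) J →+* R)
    (hnz : π (algebraMap _ _ (a J)) ∈ nonZeroDivisors R)
    (hk0 : ∀ x ∈ k.ker.ideal U, π (algebraMap _ _ x) = 0) :
    RingHom.ker ((j.app D).hom.comp e.toRingHom) ≤ RingHom.ker π := by
  let φ' : Γ(X, U.1) →+* R := π.comp (algebraMap _ _)
  let θ : Γ(Y, k ⁻¹ᵁ U.1) →+* R :=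
    (k.app U.1).hom.liftOfSurjective (k.app_surjective U.1 U.2) ⟨φ', fun x hx => by
      rw [← Scheme.Hom.ker_apply] at hx
      exact RingHom.mem_ker.mpr (hk0 x hx)⟩
  have hθ : θ.comp (k.app U.1).hom = φ' := RingHom.liftOfRightInverse_comp _ _ _ _
  let V : Y.affineOpens := ⟨k ⁻¹ᵁ U.1, U.2.preimage k⟩
  let f := Spec.map (CommRingCat.ofHom θ) ≫ V.2.fromSpec
  have hfk : f ≫ k = Spec.map (CommRingCat.ofHom φ') ≫ U.2.fromSpec := by
    rw [Category.assoc, ← IsAffineOpen.SpecMap_appLE_fromSpec k U.2 V.2 le_rfl, ← Spec.map_comp_assoc,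
      ← Scheme.Hom.app_eq_appLE]
    congr 2
    exact CommRingCat.hom_ext hθ
  have hg : BlowUp.IsEffCartierIdeal (𝓘.comap (f ≫ k)) := by
    rw [hfk]
    refine isEffCartier_specMap_fromSpec (CommRingCat.ofHom φ') (a J) hnz ?_
    show Ideal.map φ' (𝓘.ideal U) = Ideal.span {φ' (a J)}
    rw [show φ' = π.comp (algebraMap _ _) from rfl, ← _root_.Ideal.map_map, hI,
      BlowUpExists.map_ideal_eq_span _ _ (H26.BlowChart.mem_span_range a J),
      Ideal.map_span, Set.image_singleton, RingHom.comp_apply]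
  obtain ⟨l, hl, -⟩ := hb'.2 _ f (by rw [← Scheme.IdealSheafData.comap_comp]; exact hg)
  let π' : Γ(M, D) →+* R := π.comp e.symm.toRingHom
  have hlj : l ≫ j = Spec.map (CommRingCat.ofHom π') ≫ hD.fromSpec := by
    refine (hb.2 _ _ hg).unique ?_ ?_
    · show (l ≫ j) ≫ b = f ≫ k
      rw [Category.assoc, hj, reassoc_of% hl]
    · show (Spec.map (CommRingCat.ofHom π') ≫ hD.fromSpec) ≫ b = f ≫ k
      rw [Category.assoc, ← IsAffineOpen.SpecMap_appLE_fromSpec b U.2 hD hDU,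
        ← Spec.map_comp_assoc, hfk]
      congr 2
      refine CommRingCat.hom_ext (RingHom.ext fun x => ?_)
      show π (e.symm (b.appLE U.1 D hDU x)) = φ' x
      rw [← he, RingEquiv.symm_apply_apply]
      rfl
  intro z hz
  rw [RingHom.mem_ker]
  have htop : (⊤ : (Spec R).Opens) ≤ (l ≫ j) ⁻¹ᵁ D := by
    rw [hlj]
    exact BlowUpExists.top_le_specMap_fromSpec (U := ⟨D, hD⟩) _
  have h1 : (l ≫ j).appLE D ⊤ htop (e z) = 0 := by
    rw [← Scheme.Hom.appLE_comp_appLE l j D (j ⁻¹ᵁ D) ⊤ le_rfl htop, CommRingCat.comp_apply,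
      ← Scheme.Hom.app_eq_appLE]
    show (l.appLE _ _ _).hom ((j.app D).hom (e z)) = 0
    rw [show (j.app D).hom (e z) = 0 from RingHom.mem_ker.mp hz, map_zero]
  simp only [hlj] at h1
  rw [BlowUpExists.appLE_specMap_fromSpec (U := ⟨D, hD⟩), CommRingCat.comp_apply] at h1
  have h2 := congrArg (Scheme.ΓSpecIso R).hom h1
  erw [map_zero, Iso.inv_hom_id_apply] at h2
  simpa [π'] using h2

set_option maxHeartbeats 1000000 in
/-- The strict transform is regularly immersed. -/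
theorem isRegularImmersion_strict {X Y M M' : Scheme.{u}} (k : Y ⟶ X) [IsClosedImmersion k]
    (𝓘 : X.IdealSheafData) (b : M ⟶ X) (hb : BlowUp.IsBlowUp b 𝓘) (b' : M' ⟶ Y)
    (hb' : BlowUp.IsBlowUp b' (𝓘.comap k)) (j : M' ⟶ M) (hj : j ≫ b = b' ≫ k) (r : ℕ)
    (hdata : ∀ y : Y, ∃ (U : X.affineOpens) (c : ℕ) (a : Fin c → Γ(X, U.1)), k y ∈ U.1 ∧ r ≤ c ∧
      IsWeaklyRegular Γ(X, U.1) (List.ofFn a) ∧ k.ker.ideal U = Ideal.span (a '' {l | l.1 < r}) ∧
      𝓘.ideal U = Ideal.span (Set.range a)) :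
    IsClosedImmersion j ∧ RegImm.IsRegularImmersionOfCodim .regular r j := by
  haveI := isClosedImmersion_lift 𝓘 k b hb b' hb' j hj
  refine ⟨inferInstance, inferInstance, fun m => ?_⟩
  obtain ⟨U, c, a, hyU, hrc, ha, hkI, hI⟩ := hdata (b' m)
  have hxU : b (j m) ∈ U.1 := by
    rw [← Scheme.Hom.comp_apply, hj, Scheme.Hom.comp_apply]; exact hyU
  obtain ⟨J, D, hD, hDU, e, hmD, he⟩ := H26.BlowSmooth.exists_chart hb (j m) hxU a hI
  have hW : IsAffineOpen (j ⁻¹ᵁ D) := hD.preimage j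
  haveI : Nontrivial Γ(M', j ⁻¹ᵁ D) := (M'.presheaf.germ _ m hmD).hom.domain_nontrivial
  let ψ : B (a := a) J →+* Γ(M', j ⁻¹ᵁ D) := (j.app D).hom.comp e.toRingHom
  have hψsur : Function.Surjective ψ := (j.app_surjective D hD).comp e.surjective
  let φ : Γ(X, U.1) →+* Γ(M', j ⁻¹ᵁ D) := ψ.comp (algebraMap _ _)
  have hle : j ⁻¹ᵁ D ≤ (b' ≫ k) ⁻¹ᵁ U.1 := by
    rw [← hj]; exact fun z hz => hDU hz
  have hφ : ∀ x, φ x = ((b' ≫ k).appLE U.1 (j ⁻¹ᵁ D) hle).hom x := fun x => by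
    show j.app D (e (algebraMap _ _ x)) = _
    rw [he, ← CommRingCat.comp_apply, Scheme.Hom.app_eq_appLE, Scheme.Hom.appLE_comp_appLE]
    simp only [hj]
  have hφk : ∀ x ∈ k.ker.ideal U, φ x = 0 := fun x hx => by
    rw [Scheme.Hom.ker_apply, RingHom.mem_ker] at hx
    rw [hφ, ← Scheme.Hom.appLE_comp_appLE b' k U.1 (k ⁻¹ᵁ U.1) (j ⁻¹ᵁ D) le_rfl hle,
      CommRingCat.comp_apply, ← Scheme.Hom.app_eq_appLE, hx, map_zero]
  have hnzd : φ (a J) ∈ nonZeroDivisors Γ(M', j ⁻¹ᵁ D) := by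
    refine BlowUpExists.gen_mem_nonZeroDivisors (J := (𝓘.comap k).comap b') hb'.1
      (W := ⟨_, hW⟩) ?_
    rw [← Scheme.IdealSheafData.comap_comp, Ideal.Comap.ideal_comap (b' ≫ k) 𝓘 U ⟨_, hW⟩ hle,
      show ((b' ≫ k).appLE U.1 (j ⁻¹ᵁ D) hle).hom = φ from RingHom.ext fun x => (hφ x).symm,
      ← _root_.Ideal.map_map, hI, BlowUpExists.map_ideal_eq_span _ _ (H26.BlowChart.mem_span_range a J),
      Ideal.map_span, Set.image_singleton]
    rfl
  have hrJ : r ≤ J.1 := by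
    by_contra h
    rw [hφk (a J) (hkI.ge (_root_.Ideal.subset_span ⟨J, not_le.mp h, rfl⟩))] at hnzd
    exact zero_notMem_nonZeroDivisors hnzd
  obtain ⟨π, hπ, -, hkerπ⟩ := exists_chartHom (k := r) J hrJ ha
  have hker : RingHom.ker ψ = Ideal.span (frac (a := a) J '' {l | l.1 < r}) := by
    refine le_antisymm ?_ ?_
    · rw [← hkerπ]
      have hπA : ∀ x, π (algebraMap _ _ x) =
          algebraMap (Γ(X, U.1) ⧸ pre a r) _ (Ideal.Quotient.mk (pre a r) x) :=
        fun x => DFunLike.congr_fun hπ x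
      refine ker_le_of_kills k 𝓘 b hb b' hb' j hj U a hI J D hD hDU e he (CommRingCat.of _) π ?_ ?_
      · rw [hπA, mk_eq_tail a r hrJ]
        exact BlowUpExists.algebraMap_gen_mem_nonZeroDivisors _ _
      · intro x hx
        rw [hkI] at hx
        rw [hπA, Ideal.Quotient.eq_zero_iff_mem.mpr hx, map_zero]
    · rw [Ideal.span_le]
      rintro _ ⟨i, hi, rfl⟩
      refine RingHom.mem_ker.mpr ((mul_left_mem_nonZeroDivisors_eq_zero_iff hnzd).mp ?_)
      rw [RingHom.comp_apply, ← map_mul, KoszulBlow85.evalChart_var]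
      exact hφk _ (hkI.ge (_root_.Ideal.subset_span ⟨i, hi, rfl⟩))
  let u : Fin r → B (a := a) J := fun i => frac (a := a) J ⟨i.1, by omega⟩
  have hu : IsWeaklyRegular (B (a := a) J) (List.ofFn u) := isWeaklyRegular_frac J hrJ hrJ ha
  refine ⟨⟨D, hD⟩, hmD, inferInstance, List.ofFn (fun i => e (u i)), List.length_ofFn, ?_, ?_⟩
  swap
  · have hspan : Ideal.ofList (List.ofFn fun i => e (u i)) = Ideal.map e.toRingHom (RingHom.ker ψ) := by
      rw [hker, Ideal.map_span, Ideal.ofList, ← Set.image_comp]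
      congr 1
      ext x
      simp only [Set.mem_setOf_eq, List.mem_ofFn, Set.mem_image, u]
      constructor
      · rintro ⟨i, rfl⟩; exact ⟨_, i.2, rfl⟩
      · rintro ⟨l, hl, rfl⟩; exact ⟨⟨l.1, hl⟩, rfl⟩
    rw [hspan]
    show RingHom.ker (j.app D).hom = _
    rw [← RingHom.comap_ker]
    exact (Ideal.map_comap_of_surjective _ e.surjective _).symm
  · show RingTheory.Sequence.IsRegular Γ(M, D) _
    refine ⟨?_, ?_⟩
    · refine (e.toAddEquiv.isWeaklyRegular_congr ?_).1 hu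
      rw [List.forall₂_iff_get]
      refine ⟨by simp, fun i h₁ h₂ x => ?_⟩
      simp [smul_eq_mul]
    · rw [smul_eq_mul, Ideal.mul_top]
      intro h
      have h' : (1 : Γ(M, D)) ∈ Ideal.ofList (List.ofFn fun i => e (u i)) := h ▸ trivial
      have hle' : Ideal.ofList (List.ofFn fun i => e (u i)) ≤ RingHom.ker (j.app D).hom := by
        rw [Ideal.ofList, Ideal.span_le]
        intro x hx
        obtain ⟨i, rfl⟩ := List.mem_ofFn.mp hx
        exact RingHom.mem_ker.mp (hker.ge (_root_.Ideal.subset_span ⟨_, i.2, rfl⟩))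
      exact one_ne_zero ((map_one (j.app D).hom).symm.trans (RingHom.mem_ker.mp (hle' h')))

end Groth.Agent.Lib.BlowStrict85
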