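import Groth.Agent.Lib.KoszulBlow85.Alg
import Groth.Agent.Lib.BlowUpExists.Charts
import Groth.Agent.H26.RegKinds
import Groth.Agent.S14343
import Mathlib.RingTheory.Regular.RegularSequence

/-!
# Charts of strict transforms along regular sequences

For a weakly regular sequence `a` and an index `j` not among the first `k`, the chart at `aⱼ` of the
blow-up in `(a)` maps onto the chart of `A/(a₁,…,a_k)` in the remaining ones, with kernel generated by the
weakly regular sequence `a₁/aⱼ,…,a_k/aⱼ`.
-/

set_option autoImplicit false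
set_option linter.style.haveILetI false
universe u

open MvPolynomial RingTheory.Sequence

namespace Groth.Agent.Lib.BlowStrict85

variable {A : Type u} [CommRing A] {c : ℕ}

theorem isWeaklyRegular_ofFn_iff (f : Fin c → A) :
    IsWeaklyRegular A (List.ofFn f) ↔ ∀ (i : Fin c) (x : A),
      f i * x ∈ Ideal.span (f '' {l | l.1 < i.1}) → x ∈ Ideal.span (f '' {l | l.1 < i.1}) := by
  have htake : ∀ i : Fin c, (Ideal.ofList ((List.ofFn f).take i.1) • ⊤ : Submodule A A) =
      Ideal.span (f '' {l | l.1 < i.1}) := fun i => by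
    rw [smul_eq_mul, Ideal.mul_top, Ideal.ofList]
    congr 1
    ext x
    simp only [Set.mem_setOf_eq, List.mem_take_iff_getElem, List.length_ofFn, List.getElem_ofFn,
      Set.mem_image]
    constructor
    · rintro ⟨l, hl, rfl⟩
      exact ⟨⟨l, by omega⟩, show l < i.1 by omega, rfl⟩
    · rintro ⟨l, hl, rfl⟩
      exact ⟨l.1, by omega, rfl⟩
  have hreg : ∀ (J : Ideal A) (r : A),
      IsSMulRegular (A ⧸ J) r ↔ ∀ x, r * x ∈ J → x ∈ J := fun J r => by
    rw [isSMulRegular_iff_right_eq_zero_of_smul]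
    constructor
    · intro h x hx
      rw [← Ideal.Quotient.eq_zero_iff_mem] at hx ⊢
      exact h _ (by rw [← hx]; rfl)
    · intro h y hy
      obtain ⟨x, rfl⟩ := Ideal.Quotient.mk_surjective y
      exact Ideal.Quotient.eq_zero_iff_mem.mpr (h x (Ideal.Quotient.eq_zero_iff_mem.mp hy))
  rw [isWeaklyRegular_iff]
  simp only [List.length_ofFn, List.getElem_ofFn]
  constructor
  · intro h i
    have h' := h i.1 i.2
    rw [htake i, Fin.eta] at h'
    exact (hreg _ _).mp h'
  · intro h i hi
    rw [htake ⟨i, hi⟩]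
    exact (hreg _ _).mpr (h ⟨i, hi⟩)

theorem isH1Regular_of_isWeaklyRegular (f : Fin c → A) (h : IsWeaklyRegular A (List.ofFn f)) :
    CAlgX.IsH1Regular f := by
  have h1 := H26.RegKinds.h1_of_koszul (List.ofFn f)
    (Synt92.CubeBase.isKoszulRegularSeq_of_acyc _ (Synt92.CubeBase.acyc_of_isWeaklyRegular _ h))
  convert S14343.isH1Regular_cast (List.length_ofFn (f := f)).symm h1 using 1
  funext i
  simp

variable (a : Fin c → A) (k : ℕ)

/-- The ideal of the first `k` members. -/
abbrev pre : Ideal A := Ideal.span (a '' {l | l.1 < k})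

/-- The remaining members modulo the first `k`. -/
def tail : Fin (c - k) → A ⧸ pre a k := fun l => Ideal.Quotient.mk _ (a ⟨k + l.1, by omega⟩)

theorem mk_eq_zero {i : Fin c} (h : i.1 < k) : Ideal.Quotient.mk (pre a k) (a i) = 0 :=
  Ideal.Quotient.eq_zero_iff_mem.mpr (Ideal.subset_span ⟨i, h, rfl⟩)

theorem mk_eq_tail {i : Fin c} (h : k ≤ i.1) :
    Ideal.Quotient.mk (pre a k) (a i) = tail a k ⟨i.1 - k, by omega⟩ := by
  simp [tail, Nat.add_sub_cancel' h]

theorem isWeaklyRegular_tail (ha : IsWeaklyRegular A (List.ofFn a)) :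
    IsWeaklyRegular (A ⧸ pre a k) (List.ofFn (tail a k)) := by
  rw [isWeaklyRegular_ofFn_iff] at ha ⊢
  intro l y hy
  obtain ⟨x, rfl⟩ := Ideal.Quotient.mk_surjective y
  let i : Fin c := ⟨k + l.1, by omega⟩
  have hI : Ideal.comap (Ideal.Quotient.mk (pre a k)) (Ideal.span (tail a k '' {l' | l'.1 < l.1})) =
      Ideal.span (a '' {l' | l'.1 < i.1}) := by
    refine le_antisymm (fun z hz => ?_) ?_
    · have h1 : Ideal.span (tail a k '' {l' | l'.1 < l.1}) ≤
          Ideal.map (Ideal.Quotient.mk (pre a k)) (Ideal.span (a '' {l' | l'.1 < i.1})) := by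
        rw [Ideal.span_le]
        rintro _ ⟨l', hl', rfl⟩
        exact Ideal.mem_map_of_mem _ (Ideal.subset_span ⟨⟨k + l'.1, by omega⟩,
          show k + l'.1 < k + l.1 from Nat.add_lt_add_left hl' k, rfl⟩)
      obtain ⟨w, hw, hwz⟩ := (Ideal.mem_map_iff_of_surjective _ Ideal.Quotient.mk_surjective).mp
        (h1 hz)
      rw [← sub_sub_cancel w z]
      have hsub : ({l' | l'.1 < k} : Set (Fin c)) ⊆ {l' | l'.1 < i.1} := fun l' hl' => by
        simp only [Set.mem_setOf_eq, i] at hl' ⊢
        omega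
      exact sub_mem hw (Ideal.span_mono (Set.image_mono hsub) (Ideal.Quotient.eq.mp hwz))
    · rw [Ideal.span_le]
      rintro _ ⟨l', hl', rfl⟩
      rw [SetLike.mem_coe, Ideal.mem_comap]
      by_cases h : l'.1 < k
      · rw [mk_eq_zero a k h]; exact zero_mem _
      · rw [mk_eq_tail a k (not_lt.mp h)]
        exact Ideal.subset_span ⟨_, show l'.1 - k < l.1 by
          have : l'.1 < k + l.1 := hl'
          omega, rfl⟩
  have h1 := ha i x (by rw [← hI, Ideal.mem_comap, map_mul]; exact hy)
  rw [← hI, Ideal.mem_comap] at h1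
  exact h1

variable {a k} (j : Fin c) (hj : k ≤ j.1)

/-- The chart. -/
noncomputable abbrev B := BlowUp.affineAlgebra A (Ideal.span (Set.range a)) (a j)

/-- The chart of the quotient. -/
noncomputable abbrev B' := BlowUp.affineAlgebra (A ⧸ pre a k) (Ideal.span (Set.range (tail a k)))
  (tail a k ⟨j.1 - k, by omega⟩)

/-- The fractions `aᵢ/aⱼ`. -/
noncomputable abbrev frac (i : Fin c) : B (a := a) j := H26.BlowChart.evalChart a j (KoszulBlow85.var j i)

/-- The map of charts and its kernel. -/
theorem exists_chartHom (ha : IsWeaklyRegular A (List.ofFn a)) :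
    ∃ π : B (a := a) j →+* B' (a := a) (k := k) j hj,
      π.comp (algebraMap A _) = (algebraMap (A ⧸ pre a k) _).comp (Ideal.Quotient.mk (pre a k)) ∧
      Function.Surjective π ∧
      RingHom.ker π = Ideal.span (frac (a := a) j '' {l | l.1 < k}) := by
  classical
  let j' : Fin (c - k) := ⟨j.1 - k, by omega⟩
  let φ : A →+* B' (a := a) (k := k) j hj :=
    (algebraMap (A ⧸ pre a k) _).comp (Ideal.Quotient.mk (pre a k))
  have hφj : φ (a j) = algebraMap (A ⧸ pre a k) _ (tail a k j') := by
    show algebraMap (A ⧸ pre a k) _ _ = _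
    rw [mk_eq_tail a k hj]
  have hnzd : φ (a j) ∈ nonZeroDivisors (B' (a := a) (k := k) j hj) := by
    rw [hφj]
    exact BlowUpExists.algebraMap_gen_mem_nonZeroDivisors _ _
  obtain ⟨π, hπ⟩ := BlowUpExists.exists_hom_affineAlgebra (Ideal.span (Set.range a)) (a j) φ hnzd
    (fun x hx => by
      rw [hφj, ← BlowUpExists.map_ideal_eq_span (Ideal.span (Set.range (tail a k))) _
        (Ideal.subset_span ⟨j', rfl⟩)]
      refine Ideal.mem_map_of_mem _ ?_
      have h1 : Ideal.span (Set.range a) ≤
          Ideal.comap (Ideal.Quotient.mk (pre a k)) (Ideal.span (Set.range (tail a k))) := by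
        rw [Ideal.span_le]
        rintro _ ⟨i, rfl⟩
        rw [SetLike.mem_coe, Ideal.mem_comap]
        by_cases h : i.1 < k
        · rw [mk_eq_zero a k h]; exact zero_mem _
        · rw [mk_eq_tail a k (not_lt.mp h)]; exact Ideal.subset_span ⟨_, rfl⟩
      exact h1 hx)
  have hπA : ∀ x, π (algebraMap A _ x) = φ x := fun x => DFunLike.congr_fun hπ x
  let f : {i : Fin c // i ≠ j} → MvPolynomial {l : Fin (c - k) // l ≠ j'} (A ⧸ pre a k) := fun i =>
    if h : i.1.1 < k then 0 else X ⟨⟨i.1.1 - k, by omega⟩, fun he => i.2 (Fin.ext (by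
      have := congrArg Fin.val he
      simp only [j'] at this
      omega))⟩
  let ρ : MvPolynomial {i : Fin c // i ≠ j} A →+*
      MvPolynomial {l : Fin (c - k) // l ≠ j'} (A ⧸ pre a k) :=
    eval₂Hom (C.comp (Ideal.Quotient.mk (pre a k))) f
  let g : {l : Fin (c - k) // l ≠ j'} → {i : Fin c // i ≠ j} := fun l =>
    ⟨⟨k + l.1.1, by omega⟩, fun he => l.2 (Fin.ext (by
      have h' : k + l.1.1 = j.1 := congrArg Fin.val he
      show l.1.1 = j.1 - k
      omega))⟩
  have hfg : ∀ l, f (g l) = X l := fun l => by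
    simp only [f, g]
    rw [dif_neg (by omega)]
    exact congrArg X (Subtype.ext (Fin.ext (Nat.add_sub_cancel_left ..)))
  have hsec : ∀ P, ρ (rename g P) = MvPolynomial.map (Ideal.Quotient.mk (pre a k)) P := by
    intro P
    refine DFunLike.congr_fun (?_ : ρ.comp (rename g).toRingHom =
      MvPolynomial.map (Ideal.Quotient.mk (pre a k))) P
    exact MvPolynomial.ringHom_ext (fun r => by simp [ρ]) fun l => by simp [ρ, hfg]
  have hcomp : π.comp (H26.BlowChart.evalChart a j).toRingHom =
      (H26.BlowChart.evalChart (tail a k) j').toRingHom.comp ρ := by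
    refine MvPolynomial.ringHom_ext (fun r => ?_) fun i => ?_
    · simp [ρ, hπA, φ]
      rfl
    · refine (mul_cancel_left_mem_nonZeroDivisors hnzd).mp ?_
      have h1 := congrArg π (KoszulBlow85.evalChart_var a j i.1)
      rw [map_mul, hπA, hπA, KoszulBlow85.var, dif_neg i.2] at h1
      refine h1.trans ?_
      show algebraMap (A ⧸ pre a k) _ (Ideal.Quotient.mk _ (a i.1)) = _
      rw [hφj]
      simp only [RingHom.comp_apply, ρ, eval₂Hom_X', f]
      by_cases h : i.1.1 < k
      · rw [dif_pos h, mk_eq_zero a k h]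
        simp
      · rw [dif_neg h, mk_eq_tail a k (not_lt.mp h)]
        rw [← KoszulBlow85.evalChart_var (tail a k) j' ⟨i.1.1 - k, by omega⟩, KoszulBlow85.var,
          dif_neg]
        rfl
  have hker : ∀ i : Fin c, i.1 < k → π (frac (a := a) j i) = 0 := fun i h => by
    have hne : i ≠ j := fun he => by subst he; omega
    rw [frac, KoszulBlow85.var, dif_neg hne]
    have := DFunLike.congr_fun hcomp (X ⟨i, hne⟩)
    refine this.trans ?_
    simp [ρ, f, h]
  refine ⟨π, hπ, fun y => ?_, le_antisymm (fun z hz => ?_) ?_⟩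
  · obtain ⟨P, rfl⟩ := H26.BlowChart.evalChart_surjective (tail a k) j' y
    obtain ⟨Q, rfl⟩ := MvPolynomial.map_surjective _ Ideal.Quotient.mk_surjective P
    refine ⟨H26.BlowChart.evalChart a j (rename g Q), ?_⟩
    have := DFunLike.congr_fun hcomp (rename g Q)
    simp only [RingHom.comp_apply, hsec] at this
    exact this
  · obtain ⟨P, rfl⟩ := H26.BlowChart.evalChart_surjective a j z
    set K := Ideal.span (frac (a := a) j '' {l | l.1 < k})
    have hmemC : ∀ i : Fin c, i.1 < k → algebraMap A (B (a := a) j) (a i) ∈ K := fun i h => by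
      rw [← KoszulBlow85.evalChart_var a j i]
      exact Ideal.mul_mem_left _ _ (Ideal.subset_span ⟨i, h, rfl⟩)
    have hP : H26.BlowChart.evalChart (tail a k) j' (ρ P) = 0 := by
      have := DFunLike.congr_fun hcomp P
      exact this.symm.trans (RingHom.mem_ker.mp hz)
    have hlift : ∀ Q : MvPolynomial {i : Fin c // i ≠ j} A, ∃ R : MvPolynomial _ A,
        H26.BlowChart.evalChart a j Q - H26.BlowChart.evalChart a j (rename g R) ∈ K ∧
          MvPolynomial.map (Ideal.Quotient.mk (pre a k)) R = ρ Q := by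
      intro Q
      induction Q using MvPolynomial.induction_on with
      | C r => exact ⟨C r, by simp, by simp [ρ]⟩
      | add p q hp hq =>
        obtain ⟨R₁, h₁, e₁⟩ := hp
        obtain ⟨R₂, h₂, e₂⟩ := hq
        exact ⟨R₁ + R₂, by simpa [add_sub_add_comm] using add_mem h₁ h₂, by rw [map_add, map_add, e₁, e₂]⟩
      | mul_X p i hp =>
        obtain ⟨R, h₁, e₁⟩ := hp
        by_cases h : i.1.1 < k
        · refine ⟨0, ?_, by simp [ρ, f, h]⟩
          simp only [map_zero, sub_zero, map_mul]
          refine Ideal.mul_mem_left _ _ ?_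
          have : H26.BlowChart.evalChart a j (X i) = frac (a := a) j i.1 := by
            rw [frac, KoszulBlow85.var, dif_neg i.2]
          rw [this]
          exact Ideal.subset_span ⟨i.1, h, rfl⟩
        · refine ⟨R * X ⟨⟨i.1.1 - k, by omega⟩, fun he => i.2 (Fin.ext (by
            have := congrArg Fin.val he
            simp only [j'] at this
            omega))⟩, ?_, by simp [ρ, f, h, e₁]⟩
          have hg : ∀ l : {l : Fin (c - k) // l ≠ j'}, l.1.1 = i.1.1 - k → g l = i := fun l hl =>
            Subtype.ext (Fin.ext (show k + l.1.1 = i.1.1 by omega))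
          simp only [map_mul, rename_X]
          rw [hg _ rfl, ← sub_mul]
          exact Ideal.mul_mem_right _ _ h₁
    obtain ⟨R, hR, hRP⟩ := hlift P
    suffices H26.BlowChart.evalChart a j (rename g R) ∈ K by
      simpa using add_mem hR this
    have h1 : MvPolynomial.map (Ideal.Quotient.mk (pre a k)) R ∈
        KoszulBlow85.rel (tail a k) j' := by
      rw [← KoszulBlow85.ker_evalChart _ _ (isH1Regular_of_isWeaklyRegular _
        (isWeaklyRegular_tail a k ha)), RingHom.mem_ker, hRP]
      exact hP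
    have h2 : KoszulBlow85.rel (tail a k) j' ≤ Ideal.map (MvPolynomial.map (Ideal.Quotient.mk (pre a k)))
        (Ideal.span (Set.range fun l : Fin (c - k) =>
          C (a j) * KoszulBlow85.var j' l - C (a ⟨k + l.1, by omega⟩))) := by
      rw [KoszulBlow85.rel, Ideal.span_le]
      rintro _ ⟨l, rfl⟩
      rw [Ideal.map_span]
      refine Ideal.subset_span ⟨_, ⟨l, rfl⟩, ?_⟩
      simp only [map_sub, map_mul, map_C, tail]
      congr 1
      · congr 1
        · simp [j', Nat.add_sub_cancel' hj]
        · rw [KoszulBlow85.var, KoszulBlow85.var]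
          split_ifs <;> simp
    obtain ⟨R₀, hR₀, hR₀e⟩ := (Ideal.mem_map_iff_of_surjective _
      (MvPolynomial.map_surjective _ Ideal.Quotient.mk_surjective)).mp (h2 h1)
    have h3 : R - R₀ ∈ Ideal.map C (pre a k) := by
      rw [← Ideal.mk_ker (I := pre a k), ← MvPolynomial.ker_map, RingHom.mem_ker, map_sub, hR₀e,
        sub_self]
    let τ : MvPolynomial {l : Fin (c - k) // l ≠ j'} A →+* B (a := a) j :=
      (H26.BlowChart.evalChart a j).toRingHom.comp (rename g).toRingHom
    have hτC : ∀ r, τ (C r) = algebraMap A _ r := fun r => by simp [τ]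
    show τ R ∈ K
    rw [← add_sub_cancel R₀ R, map_add]
    refine add_mem ?_ ?_
    · have : τ R₀ = 0 := by
        refine RingHom.mem_ker.mp ((Ideal.span_le.mpr ?_ : _ ≤ RingHom.ker τ) hR₀)
        rintro _ ⟨l, rfl⟩
        show τ (C (a j) * KoszulBlow85.var j' l - C (a ⟨k + l.1, _⟩)) = 0
        rw [map_sub, map_mul, hτC, hτC, sub_eq_zero]
        refine Eq.trans ?_ (KoszulBlow85.evalChart_var a j ⟨k + l.1, by omega⟩)
        congr 1
        show H26.BlowChart.evalChart a j (rename g (KoszulBlow85.var j' l)) = _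
        congr 1
        rw [KoszulBlow85.var, KoszulBlow85.var]
        by_cases h : l = j'
        · rw [dif_pos h, dif_pos (Fin.ext (by subst h; simp [j', Nat.add_sub_cancel' hj])), map_one]
        · rw [dif_neg h, dif_neg (fun he => h (Fin.ext (by
            have := congrArg Fin.val he
            simp only [j'] at this ⊢
            omega))), rename_X]
      rw [this]; exact zero_mem _
    · have hle : Ideal.map C (pre a k) ≤ K.comap τ := by
        rw [Ideal.map_span, Ideal.span_le]
        rintro _ ⟨_, ⟨i, hi, rfl⟩, rfl⟩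
        show τ (C (a i)) ∈ K
        rw [hτC]
        exact hmemC i hi
      exact hle h3
  · rw [Ideal.span_le]
    rintro _ ⟨i, hi, rfl⟩
    exact hker i hi

/-- The fractions form a weakly regular sequence. -/
theorem isWeaklyRegular_frac (hj : k ≤ j.1) (ha : IsWeaklyRegular A (List.ofFn a)) :
    IsWeaklyRegular (B (a := a) j)
      (List.ofFn fun i : Fin k => frac (a := a) j ⟨i.1, by omega⟩) := by
  rw [isWeaklyRegular_ofFn_iff]
  intro i z hz
  have himg : (fun l : Fin k => frac (a := a) j ⟨l.1, by omega⟩) '' {l | l.1 < i.1} =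
      frac (a := a) j '' {l | l.1 < i.1} := by
    ext y
    constructor
    · rintro ⟨l, hl, rfl⟩; exact ⟨_, hl, rfl⟩
    · rintro ⟨l, hl, rfl⟩
      exact ⟨⟨l.1, lt_trans hl i.2⟩, hl, rfl⟩
  rw [himg] at hz ⊢
  have hij : i.1 ≤ j.1 := by omega
  obtain ⟨π, hπ, -, hker⟩ := exists_chartHom (k := i.1) j hij ha
  rw [← hker, RingHom.mem_ker] at hz ⊢
  rw [map_mul] at hz
  let i' : Fin c := ⟨i.1, by omega⟩
  have h1 : algebraMap (A ⧸ pre a i.1) (B' (a := a) (k := i.1) j hij)
      (Ideal.Quotient.mk _ (a i')) * π z = 0 := by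
    have h := congrArg π (KoszulBlow85.evalChart_var a j i')
    rw [map_mul] at h
    rw [← RingHom.comp_apply, ← hπ, RingHom.comp_apply, ← h, mul_assoc, hz, mul_zero]
  have hreg : ∀ x : A ⧸ pre a i.1, Ideal.Quotient.mk _ (a i') * x = 0 → x = 0 := fun x hx => by
    obtain ⟨y, rfl⟩ := Ideal.Quotient.mk_surjective x
    rw [← map_mul, Ideal.Quotient.eq_zero_iff_mem] at hx
    exact Ideal.Quotient.eq_zero_iff_mem.mpr ((isWeaklyRegular_ofFn_iff a).mp ha i' y hx)
  refine Subtype.ext ?_
  have h2 := congrArg Subtype.val h1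
  simp only [Subalgebra.coe_mul, Subalgebra.coe_algebraMap, Subalgebra.coe_zero] at h2
  have hlt : j.1 - i.1 < c - i.1 := by omega
  obtain ⟨⟨y, s⟩, hy⟩ := IsLocalization.surj
    (Submonoid.powers (tail a i.1 ⟨j.1 - i.1, hlt⟩)) ((π z).val)
  have h3 : algebraMap (A ⧸ pre a i.1) (Localization.Away (tail a i.1 ⟨j.1 - i.1, hlt⟩))
      (Ideal.Quotient.mk _ (a i') * y) = 0 := by
    rw [map_mul, ← hy, ← mul_assoc, h2, zero_mul]
  obtain ⟨m, hm⟩ := (IsLocalization.map_eq_zero_iff
    (Submonoid.powers (tail a i.1 ⟨j.1 - i.1, hlt⟩)) _ _).mp h3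
  have h4 : (m.1 * y) = 0 := hreg _ (by rw [← hm]; ring)
  refine ((IsLocalization.map_units (M := Submonoid.powers (tail a i.1 ⟨j.1 - i.1, hlt⟩))
    (Localization.Away _) s).mul_left_eq_zero).mp ?_
  rw [hy, IsLocalization.map_eq_zero_iff (Submonoid.powers (tail a i.1 ⟨j.1 - i.1, hlt⟩))]
  exact ⟨m, h4⟩

end Groth.Agent.Lib.BlowStrict85
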