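import Groth.Agent.Lib.BlowStrict85.Main
import Groth.Agent.Lib.ProjSpace.BaseChange
import Groth.Agent.Lib.Cyc.PP.P1Fib
import Groth.Agent.Lib.AlmostBlowUp.Basic
import Groth.Agent.S15990

/-!
# Regular sequences for a centre inside a regularly immersed subscheme, and sections of `P¹`
-/

set_option autoImplicit false
set_option linter.style.haveILetI false
universe u

open CategoryTheory CategoryTheory.Limits AlgebraicGeometry RingTheory.Sequence
open Groth.Agent.Lib TensorProduct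

namespace Groth.Agent.Lib.BlowStrict85

theorem isWeaklyRegular_flat {A B : Type u} [CommRing A] [CommRing B] (φ : A →+* B) (hφ : φ.Flat)
    {n : ℕ} {f : Fin n → A} (hf : IsWeaklyRegular A (List.ofFn f)) :
    IsWeaklyRegular B (List.ofFn (φ ∘ f)) := by
  letI := φ.toAlgebra
  haveI : Module.Flat A B := hφ
  have h1 := hf.isWeaklyRegular_lTensor (M₂ := B)
  rw [(TensorProduct.rid A B).isWeaklyRegular_congr, ← isWeaklyRegular_map_algebraMap_iff B,
    List.map_ofFn] at h1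
  exact h1

theorem flat_res {X : Scheme.{u}} {U V : X.Opens} (hU : IsAffineOpen U) (hV : IsAffineOpen V)
    (h : V ≤ U) : (X.presheaf.map (homOfLE h).op).hom.Flat := by
  have := (𝟙 X : X ⟶ X).flat_appLE hU hV h
  simp only [Scheme.Hom.appLE, Scheme.Hom.id_app] at this
  erw [Category.id_comp] at this
  exact this

/-- If the centre contains a subscheme cut out by a weakly regular sequence and is cut out in it by one,
then it is cut out by the concatenation. -/
theorem exists_data {X Y : Scheme.{u}} (k : Y ⟶ X) [IsClosedImmersion k] (𝓘 : X.IdealSheafData)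
    (h𝓘 : k.ker ≤ 𝓘) (y : Y) {U : X.Opens} (hU : IsAffineOpen U) (hyU : k y ∈ U) {r : ℕ}
    (a : Fin r → Γ(X, U)) (ha : IsWeaklyRegular Γ(X, U) (List.ofFn a))
    (hka : k.ker.ideal ⟨U, hU⟩ = Ideal.span (Set.range a))
    (V' : Y.affineOpens) (hyV : y ∈ V'.1) {m : ℕ} (s : Fin m → Γ(Y, V'.1))
    (hs : IsWeaklyRegular Γ(Y, V'.1) (List.ofFn s))
    (hsI : (𝓘.comap k).ideal V' = Ideal.span (Set.range s)) :
    ∃ (U : X.affineOpens) (c : ℕ) (a : Fin c → Γ(X, U.1)), k y ∈ U.1 ∧ r ≤ c ∧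
      IsWeaklyRegular Γ(X, U.1) (List.ofFn a) ∧ k.ker.ideal U = Ideal.span (a '' {l | l.1 < r}) ∧
      𝓘.ideal U = Ideal.span (Set.range a) := by
  obtain ⟨O, hO, hOV⟩ := k.isClosedEmbedding.isInducing.isOpen_iff.mp V'.1.2
  have hyO : k y ∈ O := by
    rw [← Set.mem_preimage, hOV]; exact hyV
  obtain ⟨W, hW, hyW, hWle⟩ := exists_isAffineOpen_mem_and_subset
    (x := k y) (U := (⟨O, hO⟩ : X.Opens) ⊓ U) ⟨hyO, hyU⟩
  have hWU : W ≤ U := fun z hz => (hWle hz).2
  have hkW : k ⁻¹ᵁ W ≤ V'.1 := fun z hz => by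
    exact hOV.le (hWle hz).1
  have hkW' : IsAffineOpen (k ⁻¹ᵁ W) := hW.preimage k
  let φ := (X.presheaf.map (homOfLE hWU).op).hom
  let a' : Fin r → Γ(X, W) := φ ∘ a
  have ha' : IsWeaklyRegular Γ(X, W) (List.ofFn a') := isWeaklyRegular_flat φ (flat_res hU hW hWU) ha
  let ψ := (Y.presheaf.map (homOfLE hkW).op).hom
  let s' : Fin m → Γ(Y, k ⁻¹ᵁ W) := ψ ∘ s
  have hs' : IsWeaklyRegular Γ(Y, k ⁻¹ᵁ W) (List.ofFn s') :=
    isWeaklyRegular_flat ψ (flat_res V'.2 hkW' hkW) hs
  have hkI : k.ker.ideal ⟨W, hW⟩ = Ideal.span (Set.range a') := by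
    rw [← k.ker.map_ideal (U := ⟨W, hW⟩) (V := ⟨U, hU⟩) hWU, hka, Ideal.map_span, ← Set.range_comp]
    rfl
  have hsI' : (𝓘.comap k).ideal ⟨_, hkW'⟩ = Ideal.span (Set.range s') := by
    rw [← (𝓘.comap k).map_ideal (U := ⟨_, hkW'⟩) (V := V') hkW, hsI, Ideal.map_span, ← Set.range_comp]
    rfl
  have hsur : Function.Surjective (k.app W).hom := k.app_surjective W hW
  choose t ht using fun l => hsur (s' l)
  have hker : RingHom.ker (k.app W).hom = Ideal.span (Set.range a') := by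
    rw [← hkI, Scheme.Hom.ker_apply]
  have hmap : Ideal.map (k.app W).hom (𝓘.ideal ⟨W, hW⟩) = Ideal.span (Set.range s') := by
    rw [← hsI', Ideal.Comap.ideal_comap k 𝓘 ⟨W, hW⟩ ⟨_, hkW'⟩ le_rfl, Scheme.Hom.app_eq_appLE]
  have hI : 𝓘.ideal ⟨W, hW⟩ = Ideal.span (Set.range (Fin.append a' t)) := by
    have h1 : Ideal.span (Set.range (Fin.append a' t)) =
        Ideal.span (Set.range a') ⊔ Ideal.span (Set.range t) := by
      rw [← Ideal.span_union]
      congr 1
      ext x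
      simp only [Set.mem_range, Set.mem_union]
      constructor
      · rintro ⟨l, rfl⟩
        induction l using Fin.addCases with
        | left l => exact Or.inl ⟨l, by simp⟩
        | right l => exact Or.inr ⟨l, by simp⟩
      · rintro (⟨l, rfl⟩ | ⟨l, rfl⟩)
        · exact ⟨_, Fin.append_left _ _ l⟩
        · exact ⟨_, Fin.append_right _ _ l⟩
    have h2 : Ideal.span (Set.range s') = Ideal.map (k.app W).hom (Ideal.span (Set.range t)) := by
      rw [Ideal.map_span, ← Set.range_comp]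
      congr 2
      funext l
      exact (ht l).symm
    have hle : Ideal.span (Set.range a') ≤ 𝓘.ideal ⟨W, hW⟩ := hkI ▸ h𝓘 ⟨W, hW⟩
    rw [h1, ← sup_eq_left.mpr hle, ← hker, sup_comm _ (Ideal.span _), RingHom.ker_eq_comap_bot,
      ← Ideal.comap_map_of_surjective _ hsur, ← Ideal.comap_map_of_surjective _ hsur, hmap, h2]
  refine ⟨⟨W, hW⟩, r + m, Fin.append a' t, hyW, Nat.le_add_right _ _, ?_, ?_, hI⟩
  · rw [List.ofFn_fin_append, isWeaklyRegular_append_iff]
    refine ⟨ha', ?_⟩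
    let E : (Γ(X, W) ⧸ (Ideal.ofList (List.ofFn a') • ⊤ : Submodule Γ(X, W) Γ(X, W))) ≃+
        Γ(Y, k ⁻¹ᵁ W) :=
      ((Submodule.quotEquivOfEq _ _ (by
          rw [hker, smul_eq_mul, Ideal.mul_top, Ideal.ofList]
          congr 1
          ext x
          simp)).toAddEquiv).trans
        (RingHom.quotientKerEquivOfSurjective hsur).toAddEquiv
    refine (E.isWeaklyRegular_congr ?_).2 hs'
    rw [List.forall₂_iff_get]
    refine ⟨by simp, fun i h₁ h₂ x => ?_⟩
    obtain ⟨x, rfl⟩ := Submodule.Quotient.mk_surjective _ x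
    simp only [List.get_eq_getElem, List.getElem_ofFn, ← ht, ← Submodule.Quotient.mk_smul]
    show (k.app W).hom (t _ * x) = (k.app W).hom (t _) * (k.app W).hom x
    rw [map_mul]
  · rw [hkI]
    congr 1
    ext x
    simp only [Set.mem_range, Set.mem_image, Set.mem_setOf_eq]
    constructor
    · rintro ⟨l, rfl⟩
      exact ⟨Fin.castAdd m l, l.2, Fin.append_left _ _ l⟩
    · rintro ⟨l, hl, rfl⟩
      induction l using Fin.addCases with
      | left l => exact ⟨l, (Fin.append_left _ _ l).symm⟩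
      | right l => exact absurd hl (by simp)

/-- A single generator of an effective Cartier divisor. -/
theorem exists_seq_of_isEffCartier {X : Scheme.{u}} {I : X.IdealSheafData}
    (hI : BlowUp.IsEffCartierIdeal I) (x : X) :
    ∃ (U : X.affineOpens) (m : ℕ) (s : Fin m → Γ(X, U.1)), x ∈ U.1 ∧
      IsWeaklyRegular Γ(X, U.1) (List.ofFn s) ∧ I.ideal U = Ideal.span (Set.range s) := by
  obtain ⟨U, hxU, f, hf, hfI⟩ := hI x
  refine ⟨U, 1, fun _ => f, hxU, ?_, by rw [hfI, Set.range_const]⟩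
  rw [List.ofFn_succ, List.ofFn_zero, isWeaklyRegular_singleton_iff]
  exact fun p q h => (mul_cancel_left_mem_nonZeroDivisors hf).mp h

section P1

/-- The section at infinity composed with the projection. -/
theorem sect_toBase (Z : Scheme.{u}) (i : Fin 2) :
    P1.sect Z i ≫ CohB1.ProjSpaceOver.toBase 1 Z = 𝟙 Z := pullback.lift_snd _ _ _

theorem isEffCartier_sect (Z : Scheme.{u}) (i : Fin 2) :
    BlowUp.IsEffCartierIdeal (P1.sect Z i).ker := by
  haveI : IsProper (CohB1.ProjSpaceOver.toBase 1 Z) := ProjSpace.BaseChange.isProper_toBase 1 Z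
  haveI := smoothOfRelativeDimension_isStableUnderBaseChange.{u} (n := 1)
  haveI : SmoothOfRelativeDimension 1 (CohB1.ProjSpaceOver.toBase 1 Z) :=
    MorphismProperty.of_isPullback (P := @SmoothOfRelativeDimension 1) (IsPullback.of_hasPullback _ _)
      (ProjSpace.Basic.smoothOfRelativeDimension_toSpec 1 (ULift.{u} ℤ))
  exact (S15990.result (CohB1.ProjSpaceOver.toBase 1 Z) _ (sect_toBase Z i)).1

theorem isPullback_toP1 {X X' : Scheme.{u}} (g : X' ⟶ X) :
    IsPullback (P1.toP1 g) (CohB1.ProjSpaceOver.toBase 1 X')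
      (CohB1.ProjSpaceOver.toBase 1 X) g := by
  have e : P1.toP1 g = ProjSpace.BaseChange.overMap 1 g := by
    refine pullback.hom_ext ?_ ?_ <;>
      simp [P1.toP1, pullback.map, ProjSpace.BaseChange.overMap, pullback.lift_fst, pullback.lift_snd]
  rw [e]
  exact ProjSpace.BaseChange.isPullback_overMap 1 g

theorem sect_comp_toP1 {X X' : Scheme.{u}} (g : X' ⟶ X) (i : Fin 2) :
    P1.sect X' i ≫ P1.toP1 g = g ≫ P1.sect X i := by
  have hs1 : ∀ Z : Scheme.{u}, P1.sect Z i ≫ pullback.fst _ _ =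
      specULiftZIsTerminal.from Z ≫ P1.point i := fun Z => pullback.lift_fst _ _ _
  have ht1 : P1.toP1 g ≫ pullback.fst _ _ = pullback.fst _ _ :=
    (pullback.lift_fst _ _ _).trans (Category.comp_id _)
  refine pullback.hom_ext ?_ ?_
  · refine (Category.assoc _ _ _).trans ?_
    refine Eq.trans ?_ (Category.assoc _ _ _).symm
    refine ((congrArg (P1.sect X' i ≫ ·) ht1).trans (hs1 X')).trans ?_
    refine Eq.trans ?_ (congrArg (g ≫ ·) (hs1 X)).symm
    refine Eq.trans ?_ (Category.assoc _ _ _)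
    exact congrArg (· ≫ P1.point i) (specULiftZIsTerminal.hom_ext _ _)
  · refine (Category.assoc _ _ _).trans ?_
    refine Eq.trans ?_ (Category.assoc _ _ _).symm
    refine ((congrArg (P1.sect X' i ≫ ·) (pullback.lift_snd _ _ _)).trans
      ((Category.assoc _ _ _).symm.trans (congrArg (· ≫ g) (sect_toBase X' i)))).trans ?_
    refine Eq.trans ?_ (congrArg (g ≫ ·) (sect_toBase X i)).symm
    simp

theorem isClosedImmersion_toP1 {X Y : Scheme.{u}} (i : Y ⟶ X) [IsClosedImmersion i] :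
    IsClosedImmersion (P1.toP1 i) :=
  MorphismProperty.of_isPullback (P := @IsClosedImmersion) (isPullback_toP1 i).flip inferInstance

/-- A regular sequence for `P¹_Y` in `P¹_X`. -/
theorem exists_seq_toP1 {X Y : Scheme.{u}} (i : Y ⟶ X) [IsClosedImmersion i] {r : ℕ}
    (hi : RegImm.IsRegularImmersionOfCodim RegImm.Kind.regular r i) (y : CohB1.ProjSpaceOver 1 Y) :
    ∃ (U : (CohB1.ProjSpaceOver 1 X).Opens) (hU : IsAffineOpen U) (a : Fin r → Γ(CohB1.ProjSpaceOver 1 X, U)),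
      P1.toP1 i y ∈ U ∧ IsWeaklyRegular Γ(CohB1.ProjSpaceOver 1 X, U) (List.ofFn a) ∧
      (P1.toP1 i).ker.ideal ⟨U, hU⟩ = Ideal.span (Set.range a) := by
  haveI : Smooth (CohB1.ProjSpaceOver.toBase 1 X) := ProjSpace.BaseChange.smooth_toBase 1 X
  obtain ⟨W, hyW, -, rs, rfl, hrs, hker⟩ := hi.2 (CohB1.ProjSpaceOver.toBase 1 Y y)
  have hb : CohB1.ProjSpaceOver.toBase 1 X (P1.toP1 i y) ∈ W.1 := by
    rw [← Scheme.Hom.comp_apply, (isPullback_toP1 i).w, Scheme.Hom.comp_apply]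
    exact hyW
  obtain ⟨U, hU, hyU, hUW⟩ := exists_isAffineOpen_mem_and_subset
    (show P1.toP1 i y ∈ CohB1.ProjSpaceOver.toBase 1 X ⁻¹ᵁ W.1 from hb)
  let φ := ((CohB1.ProjSpaceOver.toBase 1 X).appLE W.1 U hUW).hom
  refine ⟨U, hU, φ ∘ rs.get, hyU, isWeaklyRegular_flat φ
    ((CohB1.ProjSpaceOver.toBase 1 X).flat_appLE W.2 hU hUW) ?_, ?_⟩
  · rw [List.ofFn_get]
    exact (show RingTheory.Sequence.IsRegular _ rs from hrs).toIsWeaklyRegular
  · rw [AlmostBlowUp.Basic.ker_of_isPullback (isPullback_toP1 i).flip,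
      Ideal.Comap.ideal_comap _ i.ker W ⟨U, hU⟩ hUW, Scheme.Hom.ker_apply, hker, Ideal.map_ofList,
      Set.range_comp, Set.range_list_get, Ideal.ofList]
    congr 1
    ext x
    simp [φ]

theorem comap_centre {X Y : Scheme.{u}} (i : Y ⟶ X) [IsClosedImmersion i] {Z : Scheme.{u}}
    (h : Z ⟶ Y) [IsClosedImmersion h] :
    (h ≫ i ≫ P1.sect X 1).ker.comap (P1.toP1 i) = (h ≫ P1.sect Y 1).ker ∧
      (P1.toP1 i).ker ≤ (h ≫ i ≫ P1.sect X 1).ker := by
  haveI := isClosedImmersion_toP1 i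
  have e : h ≫ i ≫ P1.sect X 1 = (h ≫ P1.sect Y 1) ≫ P1.toP1 i := by
    rw [Category.assoc, sect_comp_toP1]
  rw [e]
  refine ⟨(AlmostBlowUp.Basic.ker_of_isPullback (gZ := 𝟙 Z)
    (IsPullback.of_horiz_isIso_mono ⟨by simp⟩)).symm, Scheme.Hom.le_ker_comp _ _⟩

end P1

end Groth.Agent.Lib.BlowStrict85
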